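/-
Verified enumeration of integer vectors with prescribed sum and sum of squares
(classes in the Picard lattice of del Pezzo surfaces).
-/
import Groth.Prelude.Def_W4c3severiratdpLat
import Mathlib.Algebra.Order.Chebyshev
import Mathlib.Tactic

namespace Groth.Agent.DPLat

open W4c3severiratdp

/-- candidate coordinates -/
def cands : List ℤ := [-11, -10, -9, -8, -7, -6, -5, -4, -3, -2, -1, 0, 1, 2, 3, 4, 5, 6, 7, 8, 9, 10, 11]

lemma mem_cands {b : ℤ} : b ∈ cands ↔ -11 ≤ b ∧ b ≤ 11 := by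
  simp only [cands, List.mem_cons, List.not_mem_nil, or_false]
  omega

lemma nodup_cands : cands.Nodup := by decide

/-- all vectors of length `n` with given sum and sum of squares -/
def sols : ℕ → ℤ → ℤ → List (List ℤ)
  | 0, s, q => if s = 0 ∧ q = 0 then [[]] else []
  | n + 1, s, q =>
    if s * s ≤ ((n : ℤ) + 1) * q then
      cands.flatMap fun b => (sols n (s - b) (q - b * b)).map (List.cons b)
    else []

/-- the non-increasing ones, bounded by `ub` -/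
def solsS : ℕ → ℤ → ℤ → ℤ → List (List ℤ)
  | 0, s, q, _ => if s = 0 ∧ q = 0 then [[]] else []
  | n + 1, s, q, ub =>
    if s * s ≤ ((n : ℤ) + 1) * q then
      (cands.filter (fun b => decide (b ≤ ub))).flatMap fun b =>
        (solsS n (s - b) (q - b * b) b).map (List.cons b)
    else []

lemma cauchy {n : ℕ} (b : Fin n → ℤ) : (∑ i, b i) * (∑ i, b i) ≤ (n : ℤ) * ∑ i, b i * b i := by
  have h := sq_sum_le_card_mul_sum_sq (s := Finset.univ) (f := b)
  simpa [sq] using h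

lemma mem_sols : ∀ {n : ℕ} (b : Fin n → ℤ), (∀ i, b i ∈ cands) →
    List.ofFn b ∈ sols n (∑ i, b i) (∑ i, b i * b i)
  | 0, b, _ => by simp [sols]
  | n + 1, b, h => by
    rw [sols, if_pos (by exact_mod_cast cauchy b), List.mem_flatMap]
    refine ⟨b 0, h 0, ?_⟩
    rw [List.ofFn_succ, List.mem_map]
    refine ⟨_, ?_, rfl⟩
    convert mem_sols (fun i => b i.succ) (fun i => h i.succ) using 2 <;>
      rw [Fin.sum_univ_succ] <;> ring

lemma mem_solsS : ∀ {n : ℕ} (b : Fin n → ℤ) (ub : ℤ), (∀ i, b i ∈ cands) → (∀ i, b i ≤ ub) →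
    Antitone b → List.ofFn b ∈ solsS n (∑ i, b i) (∑ i, b i * b i) ub
  | 0, b, _, _, _, _ => by simp [solsS]
  | n + 1, b, ub, h, hub, hanti => by
    rw [solsS, if_pos (by exact_mod_cast cauchy b), List.mem_flatMap]
    refine ⟨b 0, by simp [h 0, hub 0], ?_⟩
    rw [List.ofFn_succ, List.mem_map]
    refine ⟨_, ?_, rfl⟩
    convert mem_solsS (fun i => b i.succ) (b 0) (fun i => h i.succ)
      (fun i => hanti (Fin.zero_le _))
      (fun i j hij => hanti (Fin.succ_le_succ_iff.2 hij)) using 2 <;>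
      rw [Fin.sum_univ_succ] <;> ring

lemma sols_sound : ∀ {n : ℕ} {s q : ℤ} {l : List ℤ}, l ∈ sols n s q →
    ∃ b : Fin n → ℤ, List.ofFn b = l ∧ ∑ i, b i = s ∧ ∑ i, b i * b i = q
  | 0, s, q, l, h => by
    rw [sols] at h
    split_ifs at h with h0
    · obtain rfl := List.mem_singleton.1 h
      exact ⟨Fin.elim0, rfl, by simp [h0.1], by simp [h0.2]⟩
    · simp at h
  | n + 1, s, q, l, h => by
    rw [sols] at h
    split_ifs at h
    · simp only [List.mem_flatMap, List.mem_map] at h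
      obtain ⟨c, -, l', hl', rfl⟩ := h
      obtain ⟨b, rfl, h1, h2⟩ := sols_sound hl'
      exact ⟨Fin.cons c b, by simp [List.ofFn_succ], by simp [Fin.sum_univ_succ, h1],
        by simp [Fin.sum_univ_succ, h2]⟩
    · simp at h

lemma nodup_sols : ∀ (n : ℕ) (s q : ℤ), (sols n s q).Nodup
  | 0, s, q => by rw [sols]; split_ifs <;> simp
  | n + 1, s, q => by
    rw [sols]
    split_ifs
    · rw [List.nodup_flatMap]
      refine ⟨fun b _ => (nodup_sols n _ _).map (fun x y h => by simpa using h), ?_⟩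
      refine nodup_cands.imp ?_
      intro x y hxy l hlx hly
      simp only [List.mem_map] at hlx hly
      obtain ⟨_, -, rfl⟩ := hlx
      obtain ⟨_, -, h⟩ := hly
      simp only [List.cons.injEq] at h
      exact hxy h.1.symm
    · simp

/-- a class `v` with `v·v = -e`, `K·v = -c` -/
def IsCls {δ : ℕ} (c e : ℤ) (v : DP δ) : Prop := form v v = -e ∧ form (canon δ) v = -c

lemma isConic_iff {δ : ℕ} {v : DP δ} : IsConic v ↔ IsCls 2 0 v := by simp [IsConic, IsCls]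

lemma isExc_iff {δ : ℕ} {v : DP δ} : IsExc v ↔ IsCls 1 1 v := Iff.rfl

lemma form_canon {δ : ℕ} (v : DP δ) : form (canon δ) v = -3 * v 0 + ∑ i : Fin δ, v i.succ := by
  simp [form, canon]

lemma isCls_iff {δ : ℕ} {c e : ℤ} {v : DP δ} : IsCls c e v ↔
    ∑ i : Fin δ, v i.succ = 3 * v 0 - c ∧
      ∑ i : Fin δ, v i.succ * v i.succ = v 0 * v 0 + e := by
  rw [IsCls, form_canon, form]
  omega

/-- bounds on classes -/
lemma bounds {δ : ℕ} (hδ : δ ≤ 8) {c e : ℤ} (hce : (c = 2 ∧ e = 0) ∨ (c = 1 ∧ e = 1))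
    {v : DP δ} (h : IsCls c e v) :
    (-1 ≤ v 0 ∧ v 0 ≤ 11) ∧ ∀ i : Fin δ, v i.succ ∈ cands := by
  obtain ⟨h1, h2⟩ := isCls_iff.1 h
  have hc := cauchy (fun i : Fin δ => v i.succ)
  rw [h1, h2] at hc
  have hq : (0 : ℤ) ≤ v 0 * v 0 + e := by
    rcases hce with ⟨-, rfl⟩ | ⟨-, rfl⟩ <;> nlinarith [mul_self_nonneg (v 0)]
  have h8 : (δ : ℤ) * (v 0 * v 0 + e) ≤ 8 * (v 0 * v 0 + e) :=
    mul_le_mul_of_nonneg_right (by exact_mod_cast hδ) hq
  have hb : -1 ≤ v 0 ∧ v 0 ≤ 11 ∧ v 0 * v 0 + e ≤ 121 := by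
    rcases hce with ⟨rfl, rfl⟩ | ⟨rfl, rfl⟩
    · have ha : -1 ≤ v 0 ∧ v 0 ≤ 11 := ⟨by nlinarith, by nlinarith⟩
      exact ⟨ha.1, ha.2, by nlinarith⟩
    · have ha : -1 ≤ v 0 ∧ v 0 ≤ 7 := ⟨by nlinarith, by nlinarith⟩
      exact ⟨ha.1, by omega, by nlinarith⟩
  refine ⟨⟨hb.1, hb.2.1⟩, fun i => ?_⟩
  have h3 : v i.succ * v i.succ ≤ 121 := le_trans
    (Finset.single_le_sum (fun j _ => mul_self_nonneg (v (Fin.succ j))) (Finset.mem_univ i))
    (h2 ▸ hb.2.2)
  exact mem_cands.2 ⟨by nlinarith, by nlinarith⟩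

/-- possible degrees -/
def avals : List ℤ := [-1, 0, 1, 2, 3, 4, 5, 6, 7, 8, 9, 10, 11]

lemma mem_avals {b : ℤ} : b ∈ avals ↔ -1 ≤ b ∧ b ≤ 11 := by
  simp only [avals, List.mem_cons, List.not_mem_nil, or_false]
  omega

/-- all classes, as lists `a :: b` -/
def allCls (δ : ℕ) (c e : ℤ) : List (List ℤ) :=
  avals.flatMap fun a => (sols δ (3 * a - c) (a * a + e)).map (List.cons a)

lemma nodup_allCls (δ : ℕ) (c e : ℤ) : (allCls δ c e).Nodup := by
  rw [allCls, List.nodup_flatMap]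
  refine ⟨fun b _ => (nodup_sols _ _ _).map (fun x y h => by simpa using h), ?_⟩
  refine (show avals.Nodup by decide).imp ?_
  intro x y hxy l hlx hly
  simp only [List.mem_map] at hlx hly
  obtain ⟨_, -, rfl⟩ := hlx
  obtain ⟨_, -, h⟩ := hly
  simp only [List.cons.injEq] at h
  exact hxy h.1.symm

lemma mem_allCls {δ : ℕ} (hδ : δ ≤ 8) {c e : ℤ} (hce : (c = 2 ∧ e = 0) ∨ (c = 1 ∧ e = 1))
    {l : List ℤ} : l ∈ allCls δ c e ↔ ∃ v : DP δ, IsCls c e v ∧ List.ofFn v = l := by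
  simp only [allCls, List.mem_flatMap, List.mem_map]
  constructor
  · rintro ⟨a, -, l', hl', rfl⟩
    obtain ⟨b, rfl, h1, h2⟩ := sols_sound hl'
    exact ⟨Fin.cons a b, isCls_iff.2 (by simp [h1, h2]), by simp [List.ofFn_succ]⟩
  · rintro ⟨v, hv, rfl⟩
    obtain ⟨ha, hb⟩ := bounds hδ hce hv
    obtain ⟨h1, h2⟩ := isCls_iff.1 hv
    refine ⟨v 0, mem_avals.2 ha, _, ?_, (List.ofFn_succ).symm⟩
    rw [← h1, ← h2]
    exact mem_sols _ hb

lemma ncard_cls {δ : ℕ} (hδ : δ ≤ 8) {c e : ℤ} (hce : (c = 2 ∧ e = 0) ∨ (c = 1 ∧ e = 1)) :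
    {v : DP δ | IsCls c e v}.ncard = (allCls δ c e).length := by
  rw [← Set.ncard_image_of_injective _ (List.ofFn_injective (α := ℤ) (n := δ + 1)),
    ← List.toFinset_card_of_nodup (nodup_allCls δ c e), ← Set.ncard_coe_finset]
  congr 1
  ext l
  simp [mem_allCls hδ hce]

/-- sorted classes -/
def sortedCls (δ : ℕ) (c e : ℤ) : List (List ℤ) :=
  avals.flatMap fun a => (solsS δ (3 * a - c) (a * a + e) 11).map (List.cons a)

lemma mem_sortedCls {δ : ℕ} (hδ : δ ≤ 8) {c e : ℤ} (hce : (c = 2 ∧ e = 0) ∨ (c = 1 ∧ e = 1))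
    {v : DP δ} (hv : IsCls c e v) (hs : Antitone fun i : Fin δ => v i.succ) :
    List.ofFn v ∈ sortedCls δ c e := by
  simp only [sortedCls, List.mem_flatMap, List.mem_map]
  obtain ⟨ha, hb⟩ := bounds hδ hce hv
  obtain ⟨h1, h2⟩ := isCls_iff.1 hv
  refine ⟨v 0, mem_avals.2 ha, _, ?_, (List.ofFn_succ).symm⟩
  rw [← h1, ← h2]
  exact mem_solsS _ _ hb (fun i => (mem_cands.1 (hb i)).2) hs

/-- classes sorted after the first point -/
def sortedTailCls (m : ℕ) (c e : ℤ) : List (List ℤ) :=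
  avals.flatMap fun a => cands.flatMap fun b =>
    (solsS m (3 * a - c - b) (a * a + e - b * b) 11).map fun l => a :: b :: l

lemma mem_sortedTailCls {m : ℕ} (hm : m + 1 ≤ 8) {c e : ℤ}
    (hce : (c = 2 ∧ e = 0) ∨ (c = 1 ∧ e = 1))
    {v : DP (m + 1)} (hv : IsCls c e v) (hs : Antitone fun i : Fin m => v i.succ.succ) :
    List.ofFn v ∈ sortedTailCls m c e := by
  simp only [sortedTailCls, List.mem_flatMap, List.mem_map]
  obtain ⟨ha, hb⟩ := bounds hm hce hv
  obtain ⟨h1, h2⟩ := isCls_iff.1 hv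
  rw [Fin.sum_univ_succ] at h1 h2
  refine ⟨v 0, mem_avals.2 ha, v (Fin.succ 0), hb 0, List.ofFn fun i : Fin m => v i.succ.succ, ?_, ?_⟩
  · rw [← h1, ← h2, add_sub_cancel_left, add_sub_cancel_left]
    exact mem_solsS _ _ (fun i => hb i.succ) (fun i => (mem_cands.1 (hb i.succ)).2) hs
  · simp [List.ofFn_succ]

end Groth.Agent.DPLat
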