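/-
Reflections and permutations in the Weyl group of the del Pezzo lattice; reduced classes.
-/
import Groth.Agent.DPLat.Enum
import Mathlib.Data.Fin.Tuple.Sort

namespace Groth.Agent.DPLat

open W4c3severiratdp

variable {δ : ℕ}

lemma form_comm (v w : DP δ) : form v w = form w v := by
  simp only [form, mul_comm]

lemma form_add_left (u v w : DP δ) : form (u + v) w = form u w + form v w := by
  simp only [form, Pi.add_apply, add_mul, Finset.sum_add_distrib]; ring

lemma form_add_right (u v w : DP δ) : form w (u + v) = form w u + form w v := by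
  rw [form_comm w, form_add_left, form_comm u, form_comm v]

lemma form_smul_left (t : ℤ) (v w : DP δ) : form (t • v) w = t * form v w := by
  simp only [form, Pi.smul_apply, smul_eq_mul, mul_assoc, ← Finset.mul_sum]; ring

lemma form_smul_right (t : ℤ) (v w : DP δ) : form w (t • v) = t * form w v := by
  rw [form_comm w, form_smul_left, form_comm v]

lemma isWeyl_refl : IsWeyl (LinearEquiv.refl ℤ (DP δ)) := ⟨fun _ _ => rfl, rfl⟩

lemma isWeyl_trans {g h : DP δ ≃ₗ[ℤ] DP δ} (hg : IsWeyl g) (hh : IsWeyl h) : IsWeyl (g.trans h) :=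
  ⟨fun v w => by simp [hh.1, hg.1], by simp [hg.2, hh.2]⟩

lemma isWeyl_symm {g : DP δ ≃ₗ[ℤ] DP δ} (hg : IsWeyl g) : IsWeyl g.symm :=
  ⟨fun v w => by conv_rhs => rw [← g.apply_symm_apply v, ← g.apply_symm_apply w, hg.1],
    by rw [LinearEquiv.symm_apply_eq, hg.2]⟩

lemma IsCls.map {c e : ℤ} {g : DP δ ≃ₗ[ℤ] DP δ} (hg : IsWeyl g) {v : DP δ} (hv : IsCls c e v) :
    IsCls c e (g v) :=
  ⟨by rw [hg.1]; exact hv.1, by rw [← hg.2, hg.1]; exact hv.2⟩

/-- the reflection in a root -/
def refl (r : DP δ) (hr : form r r = -2) : DP δ ≃ₗ[ℤ] DP δ where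
  toFun v := v + form v r • r
  invFun v := v + form v r • r
  map_add' u v := by rw [form_add_left, add_smul]; abel
  map_smul' t v := by
    simp only [form_smul_left, RingHom.id_apply, smul_add, smul_smul]
  left_inv v := by
    simp only [form_add_left, form_smul_left, hr]
    ext i; simp; ring
  right_inv v := by
    simp only [form_add_left, form_smul_left, hr]
    ext i; simp; ring

lemma refl_apply (r : DP δ) (hr : form r r = -2) (v : DP δ) : refl r hr v = v + form v r • r := rfl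

lemma isWeyl_reflection (r : DP δ) (hr : form r r = -2) (hK : form (canon δ) r = 0) :
    IsWeyl (refl r hr) := by
  refine ⟨fun v w => ?_, by simp [refl_apply, hK]⟩
  simp only [refl_apply, form_add_left, form_add_right, form_smul_left, form_smul_right, hr,
    form_comm r w]
  ring

lemma refl_fix (r : DP δ) (hr : form r r = -2) (L : DP δ) (hL : form L r = 0) : refl r hr L = L := by
  simp [refl_apply, hL]

/-- permutation of the blown up points -/
def permL (σ : Equiv.Perm (Fin δ)) : DP δ ≃ₗ[ℤ] DP δ where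
  toFun v := Fin.cases (v 0) (fun i => v (σ i).succ)
  invFun v := Fin.cases (v 0) (fun i => v (σ.symm i).succ)
  map_add' u v := by ext i; cases i using Fin.cases <;> simp
  map_smul' t v := by ext i; cases i using Fin.cases <;> simp
  left_inv v := by ext i; cases i using Fin.cases <;> simp
  right_inv v := by ext i; cases i using Fin.cases <;> simp

@[simp] lemma permL_zero (σ : Equiv.Perm (Fin δ)) (v : DP δ) : permL σ v 0 = v 0 := rfl

@[simp] lemma permL_succ (σ : Equiv.Perm (Fin δ)) (v : DP δ) (i : Fin δ) :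
    permL σ v i.succ = v (σ i).succ := by simp [permL]

lemma isWeyl_permL (σ : Equiv.Perm (Fin δ)) : IsWeyl (permL σ) := by
  refine ⟨fun v w => ?_, ?_⟩
  · simp only [form, permL_zero, permL_succ]
    rw [Equiv.sum_comp σ (fun i => v i.succ * w i.succ)]
  · ext i; cases i using Fin.cases <;> simp [canon]

/-- a permutation sorting a tuple in decreasing order -/
lemma exists_perm_antitone {n : ℕ} (b : Fin n → ℤ) : ∃ σ : Equiv.Perm (Fin n), Antitone (b ∘ σ) :=
  ⟨Tuple.sort (fun i => -b i), fun i j h => by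
    have := Tuple.monotone_sort (fun i => -b i) h
    simpa using this⟩

/-- the group element is in the Weyl group and fixes `L` -/
def InStab (L : DP δ) (g : DP δ ≃ₗ[ℤ] DP δ) : Prop := IsWeyl g ∧ g L = L

lemma InStab.trans {L : DP δ} {g h : DP δ ≃ₗ[ℤ] DP δ} (hg : InStab L g) (hh : InStab L h) :
    InStab L (g.trans h) :=
  ⟨isWeyl_trans hg.1 hh.1, by simp [hg.2, hh.2]⟩

lemma InStab.symm {L : DP δ} {g : DP δ ≃ₗ[ℤ] DP δ} (hg : InStab L g) : InStab L g.symm :=
  ⟨isWeyl_symm hg.1, by rw [LinearEquiv.symm_apply_eq, hg.2]⟩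

lemma inStab_zero {g : DP δ ≃ₗ[ℤ] DP δ} (hg : IsWeyl g) : InStab 0 g := ⟨hg, map_zero _⟩

/-- `0 ≤ v·r` for the Cremona root `r` at positions `p, p+1, p+2` of the list `a :: b` -/
def ListRed (p : ℕ) (l : List ℤ) : Bool :=
  decide (l.length ≤ p + 2) || decide (l.getD p 0 + l.getD (p+1) 0 + l.getD (p+2) 0 ≤ l.getD 0 0)

/-- minimal degree representative in an orbit of a stabilizer -/
lemma exists_min (hδ : δ ≤ 8) {c e : ℤ} (hce : (c = 2 ∧ e = 0) ∨ (c = 1 ∧ e = 1))
    (L : DP δ) {v : DP δ} (hv : IsCls c e v) (P : DP δ → Prop)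
    (norm : ∀ w : DP δ, ∃ g, InStab L g ∧ g w 0 = w 0 ∧ P (g w)) :
    ∃ g, InStab L g ∧ P (g v) ∧
      ∀ (r : DP δ) (hr : form r r = -2), form (canon δ) r = 0 → form L r = 0 → r 0 = 1 →
        0 ≤ form (g v) r := by
  classical
  have hex : ∃ n : ℕ, ∃ g, InStab L g ∧ (g v 0 + 1).toNat = n :=
    ⟨_, LinearEquiv.refl ℤ _, ⟨isWeyl_refl, rfl⟩, rfl⟩
  obtain ⟨g, hg, hn⟩ := Nat.find_spec hex
  obtain ⟨h, hh, h0, hP⟩ := norm (g v)
  refine ⟨g.trans h, hg.trans hh, hP, fun r hr hK hL hr0 => ?_⟩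
  by_contra hneg
  push Not at hneg
  have hs : InStab L ((g.trans h).trans (refl r hr)) :=
    (hg.trans hh).trans ⟨isWeyl_reflection r hr hK, refl_fix r hr L hL⟩
  have hmin := Nat.find_min' hex ⟨_, hs, rfl⟩
  have hlo := (bounds hδ hce (hv.map hs.1)).1.1
  have hlo' := (bounds hδ hce (hv.map (hg.trans hh).1)).1.1
  simp only [LinearEquiv.trans_apply] at hmin hlo hlo' hneg
  simp only [refl_apply, Pi.add_apply, Pi.smul_apply, hr0, smul_eq_mul, mul_one, h0] at hmin hlo
  rw [h0] at hlo'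
  omega

/-- first root -/
def root3 (m : ℕ) : DP (m + 3) := Fin.cons 1 (Fin.cons 1 (Fin.cons 1 (Fin.cons 1 fun _ => 0)))

lemma form_root3 {m : ℕ} (v : DP (m + 3)) :
    form v (root3 m) = v 0 - (v (Fin.succ 0) + v (Fin.succ (Fin.succ 0))
      + v (Fin.succ (Fin.succ (Fin.succ 0)))) := by
  simp [form, root3, Fin.sum_univ_succ]
  ring

lemma root3_sq (m : ℕ) : form (root3 m) (root3 m) = -2 := by
  simp [form, root3, Fin.sum_univ_succ]

lemma root3_canon (m : ℕ) : form (canon (m + 3)) (root3 m) = 0 := by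
  simp [form, root3, canon, Fin.sum_univ_succ]

/-- second root, avoiding the first point -/
def root4 (m : ℕ) : DP (m + 4) :=
  Fin.cons 1 (Fin.cons 0 (Fin.cons 1 (Fin.cons 1 (Fin.cons 1 fun _ => 0))))

lemma form_root4 {m : ℕ} (v : DP (m + 4)) :
    form v (root4 m) = v 0 - (v (Fin.succ (Fin.succ 0)) + v (Fin.succ (Fin.succ (Fin.succ 0)))
      + v (Fin.succ (Fin.succ (Fin.succ (Fin.succ 0))))) := by
  simp [form, root4, Fin.sum_univ_succ]
  ring

lemma root4_sq (m : ℕ) : form (root4 m) (root4 m) = -2 := by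
  simp [form, root4, Fin.sum_univ_succ]

lemma root4_canon (m : ℕ) : form (canon (m + 4)) (root4 m) = 0 := by
  simp [form, root4, canon, Fin.sum_univ_succ]

/-- the root `(1; 1, 1, 1, 0, …)` kills the first conic -/
def conic₀ (m : ℕ) : DP (m + 1) := Fin.cons 1 (Fin.cons 1 fun _ => 0)

/-- the first exceptional class -/
def exc₁ (m : ℕ) : DP (m + 1) := Fin.cons 0 (Fin.cons (-1) fun _ => 0)

/-- every class can be moved to a reduced one -/
lemma exists_reduced (hδ : δ ≤ 8) {c e : ℤ} (hce : (c = 2 ∧ e = 0) ∨ (c = 1 ∧ e = 1))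
    {v : DP δ} (hv : IsCls c e v) :
    ∃ g, IsWeyl g ∧ List.ofFn (g v) ∈ (sortedCls δ c e).filter (ListRed 1) := by
  obtain ⟨g, hg, hP, hroot⟩ := exists_min hδ hce 0 hv
    (fun w => Antitone fun i : Fin δ => w i.succ) (fun w => by
      obtain ⟨σ, hσ⟩ := exists_perm_antitone fun i : Fin δ => w i.succ
      exact ⟨permL σ, inStab_zero (isWeyl_permL σ), rfl, by simpa [Function.comp_def] using hσ⟩)
  refine ⟨g, hg.1, List.mem_filter.2 ⟨mem_sortedCls hδ hce (hv.map hg.1) hP, ?_⟩⟩
  rcases Nat.lt_or_ge δ 3 with h | h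
  · simp [ListRed]; omega
  · obtain ⟨m, rfl⟩ : ∃ m, δ = m + 3 := ⟨δ - 3, by omega⟩
    have := hroot (root3 m) (root3_sq m) (root3_canon m) (by simp [form]) rfl
    rw [form_root3] at this
    simp [ListRed, List.ofFn_succ] at this ⊢
    omega

/-- every class can be moved, fixing `L`, to one which is reduced away from the first point,
when `L` is the first conic or the first exceptional class -/
lemma exists_reduced_tail {m : ℕ} (hm : m + 1 ≤ 8) {c e : ℤ}
    (hce : (c = 2 ∧ e = 0) ∨ (c = 1 ∧ e = 1)) (L : DP (m + 1)) (p : ℕ)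
    (hL : (L = conic₀ m ∧ p = 1) ∨ (L = exc₁ m ∧ p = 2))
    {v : DP (m + 1)} (hv : IsCls c e v) :
    ∃ g, InStab L g ∧ List.ofFn (g v) ∈ (sortedTailCls m c e).filter (ListRed p) := by
  obtain ⟨g, hg, hP, hroot⟩ := exists_min hm hce L hv
    (fun w => Antitone fun i : Fin m => w i.succ.succ) (fun w => by
      obtain ⟨σ, hσ⟩ := exists_perm_antitone fun i : Fin m => w i.succ.succ
      refine ⟨permL (Equiv.Perm.decomposeFin.symm (0, σ)), ⟨isWeyl_permL _, ?_⟩, rfl, ?_⟩
      · have : L = Fin.cons (L 0) (Fin.cons (L (Fin.succ 0)) fun _ => 0) := by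
          rcases hL with ⟨rfl, -⟩ | ⟨rfl, -⟩ <;> rfl
        rw [this]
        ext i
        cases i using Fin.cases with
        | zero => rfl
        | succ i =>
          rw [permL_succ]
          cases i using Fin.cases <;> simp [Equiv.Perm.decomposeFin_symm_apply_succ]
      · simpa [Function.comp_def] using hσ)
  refine ⟨g, hg, List.mem_filter.2 ⟨mem_sortedTailCls hm hce (hv.map hg.1) hP, ?_⟩⟩
  rcases hL with ⟨rfl, rfl⟩ | ⟨rfl, rfl⟩
  · rcases Nat.lt_or_ge (m + 1) 3 with h | h
    · simp [ListRed]; omega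
    · obtain ⟨n, rfl⟩ : ∃ n, m = n + 2 := ⟨m - 2, by omega⟩
      have := hroot (root3 n) (root3_sq n) (root3_canon n)
        (by simp [form, root3, conic₀, Fin.sum_univ_succ]) rfl
      rw [form_root3] at this
      simp [ListRed, List.ofFn_succ] at this ⊢
      omega
  · rcases Nat.lt_or_ge (m + 1) 4 with h | h
    · simp [ListRed]; omega
    · obtain ⟨n, rfl⟩ : ∃ n, m = n + 3 := ⟨m - 3, by omega⟩
      have := hroot (root4 n) (root4_sq n) (root4_canon n)
        (by simp [form, root4, exc₁, Fin.sum_univ_succ]) rfl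
      rw [form_root4] at this
      simp [ListRed, List.ofFn_succ] at this ⊢
      omega

end Groth.Agent.DPLat
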