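/-
Orbits of conics and exceptional classes.
-/
import Groth.Agent.DPLat.Weyl

namespace Groth.Agent.DPLat

open W4c3severiratdp

lemma exists_to_conic₀ {m : ℕ} (h1 : 1 ≤ m) (hm : m + 1 ≤ 8) {v : DP (m + 1)} (hv : IsCls 2 0 v) :
    ∃ g, IsWeyl g ∧ g v = conic₀ m := by
  obtain ⟨g, hg, hmem⟩ := exists_reduced hm (Or.inl ⟨rfl, rfl⟩) hv
  refine ⟨g, hg, List.ofFn_injective ?_⟩
  have key : ((sortedCls (m + 1) 2 0).filter (ListRed 1)).all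
      (fun l => l == List.ofFn (conic₀ m)) = true := by
    obtain ⟨rfl⟩ | ⟨rfl⟩ | ⟨rfl⟩ | ⟨rfl⟩ | ⟨rfl⟩ | ⟨rfl⟩ | ⟨rfl⟩ :
      m = 1 ∨ m = 2 ∨ m = 3 ∨ m = 4 ∨ m = 5 ∨ m = 6 ∨ m = 7 := by omega
    all_goals decide +kernel
  exact beq_iff_eq.1 (List.all_eq_true.1 key _ hmem)

lemma exists_to_exc₁ {v : DP 8} (hv : IsCls 1 1 v) : ∃ g, IsWeyl g ∧ g v = exc₁ 7 := by
  have key : ∀ w : DP 8, IsCls 1 1 w → ∃ g, IsWeyl g ∧
      List.ofFn (g w) = [0, 0, 0, 0, 0, 0, 0, 0, -1] := by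
    intro w hw
    obtain ⟨g, hg, hmem⟩ := exists_reduced le_rfl (Or.inr ⟨rfl, rfl⟩) hw
    have k : ((sortedCls 8 1 1).filter (ListRed 1)).all
        (fun l => l == [0, 0, 0, 0, 0, 0, 0, 0, -1]) = true := by decide +kernel
    exact ⟨g, hg, beq_iff_eq.1 (List.all_eq_true.1 k _ hmem)⟩
  obtain ⟨g, hg, h⟩ := key v hv
  obtain ⟨g', hg', h'⟩ := key (exc₁ 7) (by simp [IsCls, exc₁, form, canon, Fin.sum_univ_succ])
  refine ⟨g.trans g'.symm, isWeyl_trans hg (isWeyl_symm hg'), ?_⟩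
  rw [LinearEquiv.trans_apply, LinearEquiv.symm_apply_eq]
  exact List.ofFn_injective (h.trans h'.symm)

lemma form_conic₀ {m : ℕ} (v : DP (m + 1)) : form (conic₀ m) v = v 0 - v (Fin.succ 0) := by
  simp [form, conic₀, Fin.sum_univ_succ]

lemma form_exc₁ {m : ℕ} (v : DP (m + 1)) : form v (exc₁ m) = v (Fin.succ 0) := by
  simp [form, exc₁, Fin.sum_univ_succ]

/-- pairs of conics: reduced tails -/
lemma pair_reduce {m : ℕ} (h1 : 1 ≤ m) (hm : m + 1 ≤ 8) {v₁ v₂ : DP (m + 1)}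
    (hv₁ : IsCls 2 0 v₁) (hv₂ : IsCls 2 0 v₂) :
    ∃ g, IsWeyl g ∧ g v₁ = conic₀ m ∧
      List.ofFn (g v₂) ∈ (sortedTailCls m 2 0).filter (ListRed 1) := by
  obtain ⟨g, hg, h⟩ := exists_to_conic₀ h1 hm hv₁
  obtain ⟨g', hg', h'⟩ := exists_reduced_tail hm (Or.inl ⟨rfl, rfl⟩) (conic₀ m) 1
    (Or.inl ⟨rfl, rfl⟩) (hv₂.map hg)
  exact ⟨g.trans g', isWeyl_trans hg hg'.1, by simp [h, hg'.2], h'⟩

end Groth.Agent.DPLat
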